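import Mathlib.Algebra.Lie.Sl2
import Mathlib.Algebra.Lie.Semisimple.Defs
import Mathlib.LinearAlgebra.Trace
import Mathlib.Algebra.DirectSum.LinearMap
import Mathlib.FieldTheory.IsAlgClosed.Basic
import Mathlib.Data.Nat.Choose.Basic
import Mathlib.Tactic.FieldSimp

/-! Trace of `h^2` on an irreducible representation of `sl_2`. -/

set_option autoImplicit false
universe u v w

namespace K928.Sl2Trace

open LieModule Module

theorem sum_sq {k : Type u} [Field k] [CharZero k] (n : ℕ) :
    (∑ i : Fin (n + 1), ((n : k) - 2 * (i : ℕ)) ^ 2) = 2 * (((n + 1 + 1).choose 3 : ℕ) : k) := by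
  have h1 : ∀ (x : k) (m : ℕ), 3 * (∑ i ∈ Finset.range m, (x - 2 * (i : ℕ)) ^ 2) =
      3 * m * x ^ 2 - 6 * x * m * (m - 1) + 2 * (m - 1) * m * (2 * m - 1) := by
    intro x m
    induction m with
    | zero => simp
    | succ m ih =>
      rw [Finset.sum_range_succ, mul_add, ih]
      push_cast
      ring
  have h2 : ∀ m : ℕ, 6 * (((m + 1 + 1).choose 3 : ℕ) : k) = (m + 2) * (m + 1) * m := by
    intro m
    induction m with
    | zero => simp [Nat.choose]
    | succ m ih =>
      have h3 : ∀ j : ℕ, 2 * (((j + 1).choose 2 : ℕ) : k) = (j + 1) * j := by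
        intro j
        induction j with
        | zero => simp
        | succ j ih =>
          rw [Nat.choose_succ_succ' (j + 1) 1]
          push_cast
          rw [mul_add, ih, Nat.choose_one_right]
          push_cast; ring
      rw [Nat.choose_succ_succ' (m + 1 + 1) 2]
      push_cast
      rw [mul_add, ih]
      have := h3 (m + 1)
      push_cast at this
      linear_combination 3 * this
  rw [Fin.sum_univ_eq_sum_range (fun i => ((n : k) - 2 * (i : ℕ)) ^ 2)]
  have h3 := h1 n (n + 1)
  have h4 := h2 n
  have h5 : (3 : k) ≠ 0 := by norm_num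
  apply mul_left_cancel₀ h5
  rw [h3]
  push_cast
  linear_combination -h4

variable (k : Type u) [Field k] [IsAlgClosed k] [CharZero k]
    (L : Type v) [LieRing L] [LieAlgebra k L]
    (h e f : L) (t : IsSl2Triple h e f) (hspan : t.toLieSubalgebra k = ⊤)
    (V : Type w) [AddCommGroup V] [Module k V] [LieRingModule L V] [LieModule k L V]
    [FiniteDimensional k V]

include hspan in
theorem trace_irreducible [LieModule.IsIrreducible k L V] :
    LinearMap.trace k V ((LieModule.toEnd k L V h) ^ 2) =
      2 * (((Module.finrank k V + 1).choose 3 : ℕ) : k) := by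
  have hnt : Nontrivial V := (LieSubmodule.nontrivial_iff k L V).mp
    (inferInstance : Nontrivial (LieSubmodule k L V))
  obtain ⟨μ, m, hm, P⟩ := t.exists_hasPrimitiveVectorWith (R := k) (M := V)
  obtain ⟨n, hn⟩ := P.exists_nat
  have hne : ∀ i ≤ n, ((toEnd k L V f) ^ i) m ≠ 0 :=
    fun i hi => P.pow_toEnd_f_ne_zero_of_eq_nat hn hi
  have hz : ((toEnd k L V f) ^ (n + 1)) m = 0 := P.pow_toEnd_f_eq_zero_of_eq_nat hn
  let v : Fin (n + 1) → V := fun i => ((toEnd k L V f) ^ (i : ℕ)) m
  have hv : ∀ i, (toEnd k L V h) (v i) = ((n : k) - 2 * (i : ℕ)) • v i := by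
    intro i
    have := P.lie_h_pow_toEnd_f i
    rw [hn] at this
    exact this
  have hli : LinearIndependent k v := by
    apply Module.End.eigenvectors_linearIndependent' (toEnd k L V h)
      (fun i : Fin (n + 1) => (n : k) - 2 * ((i : ℕ) : k))
    · intro i j hij
      apply Fin.ext
      simpa using hij
    · intro i
      rw [Module.End.hasEigenvector_iff, Module.End.mem_eigenspace_iff]
      exact ⟨hv i, hne i (Nat.lt_succ_iff.mp i.2)⟩
  -- the span is a Lie submodule
  have hvmem : ∀ i : ℕ, ((toEnd k L V f) ^ i) m ∈ Submodule.span k (Set.range v) := by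
    intro i
    by_cases hi : i < n + 1
    · exact Submodule.subset_span ⟨⟨i, hi⟩, rfl⟩
    · have : ((toEnd k L V f) ^ i) m = 0 := by
        obtain ⟨j, rfl⟩ := Nat.exists_eq_add_of_le (not_lt.mp hi)
        rw [add_comm (n + 1) j, pow_add, Module.End.mul_apply, hz, map_zero]
      rw [this]
      exact Submodule.zero_mem _
  have hclosed : ∀ x : L, ∀ w ∈ Submodule.span k (Set.range v), ⁅x, w⁆ ∈ Submodule.span k (Set.range v) := by
    intro x w hw
    have hx : x ∈ t.toLieSubalgebra k := by rw [hspan]; trivial
    rw [IsSl2Triple.mem_toLieSubalgebra_iff] at hx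
    obtain ⟨c₁, c₂, c₃, rfl⟩ := hx
    rw [t.lie_e_f]
    have he : ∀ w ∈ Submodule.span k (Set.range v), ⁅e, w⁆ ∈ Submodule.span k (Set.range v) := by
      intro w hw
      induction hw using Submodule.span_induction with
      | mem x hx =>
        obtain ⟨i, rfl⟩ := hx
        rcases i with ⟨i, hi⟩
        rcases i with _ | i
        · have : ⁅e, v ⟨0, hi⟩⁆ = 0 := by simpa [v] using P.lie_e
          rw [this]; exact Submodule.zero_mem _
        · have := P.lie_e_pow_succ_toEnd_f i
          have h2 : ⁅e, v ⟨i + 1, hi⟩⁆ = ((i + 1) * (μ - i)) • ((toEnd k L V f) ^ i) m := this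
          rw [h2]
          exact Submodule.smul_mem _ _ (hvmem i)
      | zero => simp
      | add x y _ _ hx hy => rw [lie_add]; exact Submodule.add_mem _ hx hy
      | smul a x _ hx => rw [lie_smul]; exact Submodule.smul_mem _ _ hx
    have hf : ∀ w ∈ Submodule.span k (Set.range v), ⁅f, w⁆ ∈ Submodule.span k (Set.range v) := by
      intro w hw
      induction hw using Submodule.span_induction with
      | mem x hx =>
        obtain ⟨i, rfl⟩ := hx
        have := P.lie_f_pow_toEnd_f (i : ℕ)
        have h2 : ⁅f, v i⁆ = ((toEnd k L V f) ^ ((i : ℕ) + 1)) m := this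
        rw [h2]
        exact hvmem _
      | zero => simp
      | add x y _ _ hx hy => rw [lie_add]; exact Submodule.add_mem _ hx hy
      | smul a x _ hx => rw [lie_smul]; exact Submodule.smul_mem _ _ hx
    have hh : ∀ w ∈ Submodule.span k (Set.range v), ⁅h, w⁆ ∈ Submodule.span k (Set.range v) := by
      intro w hw
      induction hw using Submodule.span_induction with
      | mem x hx =>
        obtain ⟨i, rfl⟩ := hx
        have h2 : ⁅h, v i⁆ = ((n : k) - 2 * (i : ℕ)) • v i := hv i
        rw [h2]
        exact Submodule.smul_mem _ _ (Submodule.subset_span ⟨i, rfl⟩)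
      | zero => simp
      | add x y _ _ hx hy => rw [lie_add]; exact Submodule.add_mem _ hx hy
      | smul a x _ hx => rw [lie_smul]; exact Submodule.smul_mem _ _ hx
    rw [add_lie, add_lie, smul_lie, smul_lie, smul_lie]
    exact Submodule.add_mem _ (Submodule.add_mem _ (Submodule.smul_mem _ _ (he w hw))
      (Submodule.smul_mem _ _ (hf w hw))) (Submodule.smul_mem _ _ (hh w hw))
  let N : LieSubmodule k L V :=
    { Submodule.span k (Set.range v) with lie_mem := fun {x w} hw => hclosed x w hw }
  have hN : N = ⊤ := by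
    refine (IsSimpleOrder.eq_bot_or_eq_top N).resolve_left ?_
    intro hbot
    have : m ∈ N := by
      have h0 := hvmem 0
      rw [pow_zero, Module.End.one_apply] at h0
      exact h0
    rw [hbot] at this
    exact hm (by simpa using this)
  have hsp : ⊤ ≤ Submodule.span k (Set.range v) := by
    intro x _
    have : x ∈ N := by rw [hN]; trivial
    exact this
  let b := Module.Basis.mk hli hsp
  have hb : ∀ i, b i = v i := fun i => Module.Basis.mk_apply hli hsp i
  have hfin : finrank k V = n + 1 := by
    rw [Module.finrank_eq_card_basis b, Fintype.card_fin]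
  rw [hfin, ← sum_sq, LinearMap.trace_eq_matrix_trace k b, Matrix.trace]
  refine Finset.sum_congr rfl fun i _ => ?_
  rw [Matrix.diag_apply, LinearMap.toMatrix_apply, hb]
  have : ((toEnd k L V h) ^ 2) (v i) = (((n : k) - 2 * (i : ℕ)) ^ 2) • v i := by
    rw [pow_two, Module.End.mul_apply, hv, map_smul, hv, smul_smul, pow_two]
  rw [this, ← hb, map_smul]
  simp

include hspan in
theorem main (ι : Type) [Fintype ι] [DecidableEq ι] (W : ι → LieSubmodule k L V)
    (hW : DirectSum.IsInternal fun i => (W i).toSubmodule)
    (hirr : ∀ i, LieModule.IsIrreducible k L (W i)) :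
    LinearMap.trace k V ((LieModule.toEnd k L V h) ^ 2) =
      2 * ∑ i, (((Module.finrank k (W i) + 1).choose 3 : ℕ) : k) := by
  have hmaps : ∀ i, Set.MapsTo (((LieModule.toEnd k L V h) ^ 2 : Module.End k V))
      ((W i).toSubmodule : Set V) ((W i).toSubmodule : Set V) := by
    intro i x hx
    rw [pow_two, Module.End.mul_apply]
    exact (W i).lie_mem ((W i).lie_mem hx)
  rw [LinearMap.trace_eq_sum_trace_restrict hW hmaps, Finset.mul_sum]
  refine Finset.sum_congr rfl fun i _ => ?_
  have := hirr i
  rw [← trace_irreducible k L h e f t hspan (W i)]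
  congr 1

end K928.Sl2Trace
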